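import Groth.Agent.SHClosed.Main
import Groth.Agent.Hensel.HenselizationMore
import Mathlib

/-!
# Strict henselisations over a discrete valuation ring are those at closed points over a bigger one
-/

set_option autoImplicit false
set_option backward.isDefEq.respectTransparency false
set_option backward.isDefEq.respectTransparency.types false
set_option linter.style.haveILetI false
set_option linter.overlappingInstances false
set_option maxHeartbeats 1000000
set_option synthInstance.maxHeartbeats 400000

universe u

open CategoryTheory AlgebraicGeometry IsLocalRing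
open scoped TensorProduct

noncomputable section

namespace Groth.Agent.SHClosed

/-- a domain finitely generated over a field is algebraic over finitely many independent elements -/
theorem exists_indep_algebraic (κ : Type u) [Field κ] (D : Type u) [CommRing D] [IsDomain D] [Algebra κ D]
    [Algebra.FiniteType κ D] :
    ∃ (r : ℕ) (b : Fin r → D), Function.Injective (MvPolynomial.aeval (R := κ) b) ∧
      ∀ s : D, ∃ q : Polynomial (MvPolynomial (Fin r) κ), q ≠ 0 ∧
        q.eval₂ (MvPolynomial.aeval (R := κ) b).toRingHom s = 0 := by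
  haveI : LocallyOfFiniteType (Spec.map (CommRingCat.ofHom (algebraMap κ D))) :=
    (HasRingHomProperty.Spec_iff (P := @LocallyOfFiniteType)).2
      (RingHom.finiteType_algebraMap.2 (inferInstance : Algebra.FiniteType κ D))
  let y : Spec (CommRingCat.of D) := ⟨⊥, Ideal.isPrime_bot⟩
  obtain ⟨r, hr, -⟩ := EtPBC.exists_trdg_eq (Spec.map (CommRingCat.ofHom (algebraMap κ D))) y
  obtain ⟨b, hb⟩ := EtPBC.exists_indep_eq D y hr
  rw [EtPBC.trdg_kStr_spec] at hr
  let e : (D ⧸ y.asIdeal) ≃ₐ[κ] D := AlgEquiv.quotientBot κ D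
  rw [e.trdeg_eq] at hr
  have hb' : AlgebraicIndependent κ b :=
    AlgebraicIndependent.of_comp (Ideal.Quotient.mkₐ κ y.asIdeal) hb
  refine ⟨r, b, hb', fun s => ?_⟩
  let P := MvPolynomial (Fin r) κ
  letI : Algebra P D := (MvPolynomial.aeval (R := κ) b).toRingHom.toAlgebra
  haveI : IsScalarTower κ P D :=
    IsScalarTower.of_algebraMap_eq fun c => ((MvPolynomial.aeval b).commutes c).symm
  haveI : FaithfulSMul P D := (faithfulSMul_iff_algebraMap_injective _ _).2 hb'
  haveI : FaithfulSMul κ P := (faithfulSMul_iff_algebraMap_injective _ _).2 (MvPolynomial.C_injective _ _)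
  have h2 := trdeg_add_eq κ P (A := D)
  rw [MvPolynomial.trdeg_of_isDomain, hr] at h2
  simp only [Cardinal.mk_fin, Cardinal.lift_natCast, Cardinal.lift_id] at h2
  haveI : Algebra.IsAlgebraic P D := trdeg_eq_zero_iff.1
    (Cardinal.eq_of_add_eq_add_left (b := Algebra.trdeg P D) (c := 0) (h2.trans (add_zero _).symm)
      Cardinal.natCast_lt_aleph0)
  obtain ⟨q, hq, hq0⟩ := Algebra.IsAlgebraic.isAlgebraic (R := P) s
  exact ⟨q, hq, hq0⟩

/-- the affine case over a discrete valuation ring, once independent functions are chosen -/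
theorem exists_closedPoint_dvr_affine {R : Type u} [CommRing R] [IsDomain R] [IsDiscreteValuationRing R]
    (B : Type u) [CommRing B] [Algebra R B] [Algebra.FiniteType R B] (y : Spec (CommRingCat.of B))
    (hy : maximalIdeal R ≤ y.asIdeal.comap (algebraMap R B)) (A : Type u) [CommRing A] [IsLocalRing A]
    [Algebra ((Spec (CommRingCat.of B)).presheaf.stalk y) A]
    [IsLocalHom (algebraMap ((Spec (CommRingCat.of B)).presheaf.stalk y) A)]
    [hA : _root_.Hensel.IsStrictHenselization ((Spec (CommRingCat.of B)).presheaf.stalk y) A] :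
    ∃ (R' : Type u) (_ : CommRing R') (_ : IsDomain R') (_ : IsDiscreteValuationRing R') (_ : HenselianLocalRing R')
      (_ : IsSepClosed (IsLocalRing.ResidueField R'))
      (X' : Scheme.{u}) (f' : X' ⟶ Spec (CommRingCat.of R')) (_ : LocallyOfFiniteType f') (_ : QuasiCompact f')
      (x' : X') (_ : IsClosed ({x'} : Set X'))
      (_ : f'.base x' = ((IsLocalRing.closedPoint R' : PrimeSpectrum R') : ↥(Spec (CommRingCat.of R'))))
      (_ : Algebra (X'.presheaf.stalk x') A) (_ : IsLocalHom (algebraMap (X'.presheaf.stalk x') A)),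
      _root_.Hensel.IsStrictHenselization (X'.presheaf.stalk x') A := by
  haveI : HenselianLocalRing A := hA.henselian
  haveI : IsSepClosed (ResidueField A) := hA.isSepClosure.1
  let O : Type u := (Spec (CommRingCat.of B)).presheaf.stalk y
  letI : Algebra B O := (StructureSheaf.toStalk B y).hom.toAlgebra
  haveI : IsLocalization.AtPrime O y.asIdeal := isLocalization_stalk B y
  letI : Algebra B A := ((algebraMap O A).comp (algebraMap B O)).toAlgebra
  haveI : IsScalarTower B O A := IsScalarTower.of_algebraMap_eq fun _ => rfl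
  -- the residue algebra
  let κ := ResidueField R
  let qy : R →+* B ⧸ y.asIdeal := (Ideal.Quotient.mk y.asIdeal).comp (algebraMap R B)
  letI : Algebra κ (B ⧸ y.asIdeal) :=
    (Ideal.Quotient.lift (maximalIdeal R) qy fun a ha => Ideal.Quotient.eq_zero_iff_mem.2 (hy ha)).toAlgebra
  haveI : IsScalarTower R κ (B ⧸ y.asIdeal) := IsScalarTower.of_algebraMap_eq fun _ => rfl
  haveI : Algebra.FiniteType κ (B ⧸ y.asIdeal) := Algebra.FiniteType.of_restrictScalars_finiteType R κ _
  obtain ⟨r, b₀, hbi, hbalg⟩ := exists_indep_algebraic κ (B ⧸ y.asIdeal)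
  choose b hb using fun i => Ideal.Quotient.mk_surjective (b₀ i)
  let P := MvPolynomial (Fin r) R
  letI : Algebra P B := (MvPolynomial.aeval b).toRingHom.toAlgebra
  haveI : IsScalarTower R P B := IsScalarTower.of_algebraMap_eq fun c => ((MvPolynomial.aeval b).commutes c).symm
  haveI : Algebra.FiniteType P B := Algebra.FiniteType.of_restrictScalars_finiteType R P B
  let red : P →+* MvPolynomial (Fin r) κ := MvPolynomial.map (residue R)
  have hred : ∀ p : P, Ideal.Quotient.mk y.asIdeal (algebraMap P B p) = MvPolynomial.aeval b₀ (red p) := by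
    intro p
    have h : ((Ideal.Quotient.mk y.asIdeal).comp (algebraMap P B)) =
        (MvPolynomial.aeval (R := κ) b₀).toRingHom.comp red := by
      refine MvPolynomial.ringHom_ext (fun c => ?_) fun i => ?_
      · show Ideal.Quotient.mk y.asIdeal (MvPolynomial.aeval b (MvPolynomial.C c)) = MvPolynomial.aeval b₀ _
        rw [MvPolynomial.aeval_C, MvPolynomial.map_C, MvPolynomial.aeval_C]
        rfl
      · show Ideal.Quotient.mk y.asIdeal (MvPolynomial.aeval b (MvPolynomial.X i)) = MvPolynomial.aeval b₀ _
        rw [MvPolynomial.aeval_X, MvPolynomial.map_X, MvPolynomial.aeval_X, hb]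
    exact RingHom.congr_fun h p
  let p₀ : Ideal P := RingHom.ker red
  haveI : p₀.IsPrime := RingHom.ker_isPrime red
  have hp₀ : ∀ p : P, algebraMap P B p ∈ y.asIdeal ↔ p ∈ p₀ := fun p => by
    rw [← Ideal.Quotient.eq_zero_iff_mem, hred, map_eq_zero_iff _ hbi]
    rfl
  -- the Gauss valuation ring
  let V := Localization.AtPrime p₀
  haveI : IsNoetherianRing V := IsLocalization.isNoetherianRing p₀.primeCompl _ inferInstance
  obtain ⟨ϖ, hϖ⟩ := IsDiscreteValuationRing.exists_irreducible R
  have hmax : maximalIdeal V = Ideal.span {algebraMap P V (MvPolynomial.C ϖ)} := by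
    rw [← Localization.AtPrime.map_eq_maximalIdeal]
    show Ideal.map _ (RingHom.ker (MvPolynomial.map (residue R))) = _
    rw [MvPolynomial.ker_map, ker_residue, hϖ.maximalIdeal_eq, Ideal.map_span, Set.image_singleton, Ideal.map_span,
      Set.image_singleton]
  have hne : ¬ IsField V := fun h => hϖ.ne_zero (MvPolynomial.C_injective (Fin r) R
    (IsLocalization.injective V p₀.primeCompl_le_nonZeroDivisors
      (a₁ := MvPolynomial.C ϖ) (a₂ := MvPolynomial.C 0) (by
        rw [map_zero (MvPolynomial.C (σ := Fin r) (R := R)), map_zero]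
        have h1 := hmax
        rw [IsLocalRing.isField_iff_maximalIdeal_eq.1 h] at h1
        exact Ideal.span_singleton_eq_bot.1 h1.symm)))
  haveI : IsDiscreteValuationRing V := by
    have h40 := (IsDiscreteValuationRing.TFAE V hne).out 4 0
    exact h40.1 ⟨⟨_, hmax⟩⟩
  letI : Algebra P A := ((algebraMap B A).comp (algebraMap P B)).toAlgebra
  haveI : IsScalarTower P B A := IsScalarTower.of_algebraMap_eq fun _ => rfl
  have hu : ∀ p : p₀.primeCompl, IsUnit (algebraMap P A p) := fun p =>
    (IsLocalization.map_units O (⟨algebraMap P B p, fun h => p.2 ((hp₀ _).1 h)⟩ : y.asIdeal.primeCompl)).map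
      (algebraMap O A)
  let ν : V →+* A := IsLocalization.lift (S := V) hu
  haveI hν : IsLocalHom ν := ⟨fun a ha => by
    obtain ⟨c, s, rfl⟩ := IsLocalization.exists_mk'_eq p₀.primeCompl a
    refine (IsLocalization.AtPrime.isUnit_mk'_iff V p₀ c s).2 fun hc => ?_
    have h1 : IsUnit (ν (algebraMap P V c)) := by
      rw [← IsLocalization.mk'_spec V c s, map_mul]
      exact ha.mul ((IsLocalization.map_units V s).map ν)
    rw [IsLocalization.lift_eq] at h1
    exact (IsLocalization.AtPrime.isUnit_to_map_iff O y.asIdeal _).1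
      (isUnit_of_map_unit (algebraMap O A) _ h1) ((hp₀ c).2 hc)⟩
  obtain ⟨R', _, _, _, _, hH⟩ := EtBCQ.exists_sh V
  haveI : HenselianLocalRing R' := hH.henselian
  haveI : IsSepClosed (ResidueField R') := hH.isSepClosure.1
  obtain ⟨-, hreg, hdim⟩ := (Hensel.dvr_iff V).1 ⟨inferInstance, inferInstance⟩
  haveI : IsNoetherianRing R' := (Hensel.strictHenselization_isNoetherianRing_iff V R').1 inferInstance
  haveI : IsRegularLocalRing R' := (Hensel.strictHenselization_isRegularLocalRing_iff V R').2 hreg
  haveI : IsDomain R' := RegLoc.isDomain R'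
  obtain ⟨_, hdvr⟩ := (Hensel.dvr_iff R').2
    ⟨inferInstance, inferInstance, (Hensel.strictHenselization_ringKrullDim V R').trans hdim⟩
  haveI : Algebra.IsSeparable (ResidueField V) (ResidueField R') := hH.isSepClosure.2
  letI : Algebra V A := ν.toAlgebra
  haveI : IsLocalHom (algebraMap V A) := hν
  let τ : ResidueField R' →ₐ[ResidueField V] ResidueField A := IsSepClosed.lift
  obtain ⟨g, ⟨hg, hgτ⟩, -⟩ := hH.universal A (algebraMap V A) τ.toRingHom (RingHom.ext fun x => τ.commutes x)
  haveI hgl : IsLocalHom g := ⟨fun s hs => by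
    by_contra hns
    refine (residue_ne_zero_iff_isUnit _).2 hs ?_
    rw [hgτ, (residue_eq_zero_iff s).2 hns, map_zero]⟩
  letI : Algebra P R' := ((algebraMap V R').comp (algebraMap P V)).toAlgebra
  haveI : IsScalarTower P V R' := IsScalarTower.of_algebraMap_eq fun _ => rfl
  haveI : Algebra.WeaklyEtale P V := weaklyEtale_of_isLocalization p₀.primeCompl V
  haveI : Algebra.WeaklyEtale V R' := WeakEt.weaklyEtale_strictHenselization V R'
  haveI : Algebra.WeaklyEtale P R' := Algebra.WeaklyEtale.trans P V R'
  have hg' : ∀ p : P, g (algebraMap P R' p) = algebraMap P A p := fun p => by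
    show g (algebraMap V R' (algebraMap P V p)) = _
    rw [← RingHom.comp_apply g (algebraMap V R'), hg]
    exact IsLocalization.lift_eq hu p
  let g' : R' →ₐ[P] A := { g with commutes' := hg' }
  let C := B ⊗[P] R'
  let θ : C →ₐ[B] A := Algebra.TensorProduct.lift (Algebra.ofId B A) g' fun _ _ => Commute.all _ _
  let x : Spec (CommRingCat.of C) := ⟨(maximalIdeal A).comap θ.toRingHom, Ideal.IsPrime.comap _⟩
  let inr : R' →+* C := (Algebra.TensorProduct.includeRight (R := P) (A := B) (B := R')).toRingHom
  have hinr : ∀ c, θ.toRingHom (inr c) = g c := fun c => by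
    show θ ((1 : B) ⊗ₜ[P] c) = _
    rw [Algebra.TensorProduct.lift_tmul, map_one, one_mul]
    rfl
  have hinrmem : ∀ c, inr c ∈ x.asIdeal ↔ c ∈ maximalIdeal R' := fun c => by
    show θ.toRingHom (inr c) ∈ maximalIdeal A ↔ _
    rw [hinr, mem_maximalIdeal, mem_maximalIdeal]
    exact map_mem_nonunits_iff g c
  have hft : inr.FiniteType := by
    have h1 : (algebraMap R' (R' ⊗[P] B)).FiniteType :=
      RingHom.finiteType_algebraMap.2 (inferInstance : Algebra.FiniteType R' (R' ⊗[P] B))
    have h2 := (RingHom.FiniteType.of_surjective (Algebra.TensorProduct.comm P R' B).toRingHom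
      (Algebra.TensorProduct.comm P R' B).surjective).comp h1
    refine (show inr = _ from RingHom.ext fun c => ?_) ▸ h2
    exact (Algebra.TensorProduct.comm_tmul P c (1 : B)).symm
  haveI : LocallyOfFiniteType (Spec.map (CommRingCat.ofHom inr)) :=
    (HasRingHomProperty.Spec_iff (P := @LocallyOfFiniteType)).2 hft
  have hmaxx : x.asIdeal.IsMaximal := by
    let k' := ResidueField R'
    let ρ : k' →+* C ⧸ x.asIdeal := Ideal.Quotient.lift (maximalIdeal R') ((Ideal.Quotient.mk x.asIdeal).comp inr)
      fun c hc => Ideal.Quotient.eq_zero_iff_mem.2 ((hinrmem c).2 hc)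
    letI : Algebra k' (C ⧸ x.asIdeal) := ρ.toAlgebra
    haveI : Algebra.IsIntegral k' (C ⧸ x.asIdeal) := by
      refine ⟨fun z => ?_⟩
      obtain ⟨z, rfl⟩ := Ideal.Quotient.mk_surjective z
      induction z using TensorProduct.induction_on with
      | zero => rw [map_zero]; exact isIntegral_zero
      | add a c ha hc => rw [map_add]; exact ha.add hc
      | tmul s c =>
        rw [show s ⊗ₜ[P] c = (s ⊗ₜ[P] (1 : R')) * inr c by
          show s ⊗ₜ[P] c = (s ⊗ₜ[P] (1 : R')) * ((1 : B) ⊗ₜ[P] c)
          rw [Algebra.TensorProduct.tmul_mul_tmul, mul_one, one_mul], map_mul]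
        refine IsIntegral.mul ?_ (isIntegral_algebraMap (x := residue R' c))
        obtain ⟨q₀, hq₀, hq₀0⟩ := hbalg (Ideal.Quotient.mk y.asIdeal s)
        obtain ⟨q, rfl⟩ := Polynomial.map_surjective red
          (MvPolynomial.map_surjective (residue R) residue_surjective) q₀
        let jP : P →+* C ⧸ x.asIdeal :=
          (Ideal.Quotient.mk x.asIdeal).comp ((algebraMap B C).comp (algebraMap P B))
        let J : B ⧸ y.asIdeal →+* C ⧸ x.asIdeal :=
          Ideal.Quotient.lift y.asIdeal ((Ideal.Quotient.mk x.asIdeal).comp (algebraMap B C)) fun w hw =>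
            Ideal.Quotient.eq_zero_iff_mem.2 (by
              show θ (algebraMap B C w) ∈ maximalIdeal A
              rw [θ.commutes]
              refine (mem_maximalIdeal _).2 (mt (isUnit_of_map_unit (algebraMap O A) (algebraMap B O w)) ?_)
              exact fun h => (IsLocalization.AtPrime.isUnit_to_map_iff O y.asIdeal w).1 h hw)
        let kP : P →+* k' := (residue R').comp (algebraMap P R')
        have hne' : q.map kP ≠ 0 := fun h0 => hq₀ <| Polynomial.ext fun n => by
          rw [Polynomial.coeff_map, Polynomial.coeff_zero]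
          by_contra hn
          have h1 := congrArg (fun t => Polynomial.coeff t n) h0
          rw [Polynomial.coeff_map, Polynomial.coeff_zero] at h1
          refine (residue_ne_zero_iff_isUnit _).2 ?_ h1
          exact (IsLocalization.map_units V (⟨q.coeff n, hn⟩ : p₀.primeCompl)).map (algebraMap V R')
        refine IsAlgebraic.isIntegral ⟨q.map kP, hne', ?_⟩
        rw [Polynomial.aeval_def, Polynomial.eval₂_map,
          show (algebraMap k' (C ⧸ x.asIdeal)).comp kP = J.comp ((MvPolynomial.aeval (R := κ) b₀).toRingHom.comp red) from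
            RingHom.ext fun p => by
              show Ideal.Quotient.mk x.asIdeal (inr (algebraMap P R' p)) = J (MvPolynomial.aeval b₀ (red p))
              rw [← hred]
              exact congrArg (Ideal.Quotient.mk x.asIdeal)
                (((Algebra.TensorProduct.includeRight (R := P) (A := B) (B := R')).commutes p).trans
                  (IsScalarTower.algebraMap_apply P B C p)),
          show Ideal.Quotient.mk x.asIdeal (s ⊗ₜ[P] (1 : R')) = J (Ideal.Quotient.mk y.asIdeal s) from rfl,
          ← Polynomial.hom_eval₂, ← Polynomial.eval₂_map, hq₀0, map_zero]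
    exact Ideal.Quotient.maximal_of_isField _ (isField_of_isIntegral_of_isField' (Field.toIsField k'))
  have hcl : IsClosed ({x} : Set (Spec (CommRingCat.of C))) :=
    (PrimeSpectrum.isClosed_singleton_iff_isMaximal x).2 hmaxx
  let O' : Type u := (Spec (CommRingCat.of C)).presheaf.stalk x
  letI : Algebra C O' := (StructureSheaf.toStalk C x).hom.toAlgebra
  haveI : IsLocalization.AtPrime O' x.asIdeal := isLocalization_stalk C x
  have hx : ∀ c : x.asIdeal.primeCompl, IsUnit (θ.toRingHom c) := fun c => notMem_maximalIdeal.1 c.2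
  let χ : O' →+* A := IsLocalization.lift (S := O') hx
  letI : Algebra O' A := χ.toAlgebra
  haveI hloc : IsLocalHom (algebraMap O' A) := ⟨fun a ha => by
    obtain ⟨c, s, rfl⟩ := IsLocalization.exists_mk'_eq x.asIdeal.primeCompl a
    refine (IsLocalization.AtPrime.isUnit_mk'_iff O' x.asIdeal c s).2 fun hc => ?_
    have h1 : IsUnit (χ (algebraMap C O' c)) := by
      rw [← IsLocalization.mk'_spec O' c s, map_mul]
      exact ha.mul ((IsLocalization.map_units O' s).map χ)
    rw [IsLocalization.lift_eq] at h1
    exact (mem_maximalIdeal _).1 hc h1⟩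
  letI : Algebra B O' := ((algebraMap C O').comp (algebraMap B C)).toAlgebra
  haveI : IsScalarTower B C O' := IsScalarTower.of_algebraMap_eq fun _ => rfl
  have hyO : ∀ s : y.asIdeal.primeCompl, IsUnit (algebraMap B O' s) := fun s => by
    refine IsLocalization.map_units O' (⟨algebraMap B C s, fun h => ?_⟩ : x.asIdeal.primeCompl)
    have h1 : algebraMap B A (s : B) ∈ maximalIdeal A := θ.commutes (s : B) ▸ h
    exact (mem_maximalIdeal _).1 h1 ((IsLocalization.map_units O s).map (algebraMap O A))
  letI : Algebra O O' := (IsLocalization.lift (S := O) hyO).toAlgebra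
  haveI : IsScalarTower B O O' := IsScalarTower.of_algebraMap_eq fun c => (IsLocalization.lift_eq _ c).symm
  haveI : IsScalarTower O O' A := IsScalarTower.of_algebraMap_eq' (IsLocalization.ringHom_ext y.asIdeal.primeCompl
    (RingHom.ext fun c => by
      show algebraMap O A (algebraMap B O c) = χ (IsLocalization.lift (S := O) hyO (algebraMap B O c))
      rw [IsLocalization.lift_eq]
      show _ = χ (algebraMap C O' (algebraMap B C c))
      rw [IsLocalization.lift_eq]
      exact (θ.commutes c).symm))
  haveI : Algebra.WeaklyEtale B O := weaklyEtale_of_isLocalization y.asIdeal.primeCompl O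
  haveI : Algebra.WeaklyEtale C O' := weaklyEtale_of_isLocalization x.asIdeal.primeCompl O'
  haveI : Algebra.WeaklyEtale B O' := Algebra.WeaklyEtale.trans B C O'
  haveI : Algebra.WeaklyEtale O O' := WeakEt.weaklyEtale_of_comp B O O'
  haveI : Algebra.WeaklyEtale O A := WeakEt.weaklyEtale_strictHenselization O A
  haveI : Algebra.WeaklyEtale O' A := WeakEt.weaklyEtale_of_comp O O' A
  obtain ⟨hl', hS'⟩ := Hensel.exists_strictHenselization O'
  refine ⟨R', inferInstance, inferInstance, hdvr, inferInstance, inferInstance, _, Spec.map (CommRingCat.ofHom inr),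
    inferInstance, inferInstance, x, hcl, PrimeSpectrum.ext (Ideal.ext fun c => hinrmem c),
    inferInstance, hloc, WeakEt.isStrictHenselization_aux O' (Hensel.Env O' (SeparableClosure (ResidueField O'))) A
      (hS := hS')⟩

/-- **the general case over a discrete valuation ring** -/
theorem exists_closedPoint_dvr {R : Type u} [CommRing R] [IsDomain R] [IsDiscreteValuationRing R] {X : Scheme.{u}}
    (f : X ⟶ Spec (CommRingCat.of R)) [LocallyOfFiniteType f] (x : X)
    (hx : f.base x = ((IsLocalRing.closedPoint R : PrimeSpectrum R) : ↥(Spec (CommRingCat.of R))))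
    (A : Type u) [CommRing A] [IsLocalRing A] [Algebra (X.presheaf.stalk x) A]
    [IsLocalHom (algebraMap (X.presheaf.stalk x) A)] [_root_.Hensel.IsStrictHenselization (X.presheaf.stalk x) A] :
    ∃ (R' : Type u) (_ : CommRing R') (_ : IsDomain R') (_ : IsDiscreteValuationRing R') (_ : HenselianLocalRing R')
      (_ : IsSepClosed (IsLocalRing.ResidueField R'))
      (X' : Scheme.{u}) (f' : X' ⟶ Spec (CommRingCat.of R')) (_ : LocallyOfFiniteType f') (_ : QuasiCompact f')
      (x' : X') (_ : IsClosed ({x'} : Set X'))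
      (_ : f'.base x' = ((IsLocalRing.closedPoint R' : PrimeSpectrum R') : ↥(Spec (CommRingCat.of R'))))
      (_ : Algebra (X'.presheaf.stalk x') A) (_ : IsLocalHom (algebraMap (X'.presheaf.stalk x') A)),
      _root_.Hensel.IsStrictHenselization (X'.presheaf.stalk x') A := by
  obtain ⟨U, hU, hxU, -⟩ := exists_isAffineOpen_mem_and_subset (x := x) (U := (⊤ : X.Opens)) trivial
  let j := hU.fromSpec
  obtain ⟨y, rfl⟩ : ∃ y, j y = x := by
    have : x ∈ Set.range hU.fromSpec := by rw [hU.range_fromSpec]; exact hxU
    exact this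
  let φ : R →+* Γ(X, U) := (Spec.preimage (j ≫ f)).hom
  have hφ : Spec.map (CommRingCat.ofHom φ) = j ≫ f := Spec.map_preimage _
  letI : Algebra R Γ(X, U) := φ.toAlgebra
  haveI : Algebra.FiniteType R Γ(X, U) := by
    haveI : LocallyOfFiniteType (Spec.map (CommRingCat.ofHom φ)) := by rw [hφ]; infer_instance
    exact (HasRingHomProperty.Spec_iff (P := @LocallyOfFiniteType)).1 ‹_›
  let e := (asIso (j.stalkMap y)).commRingCatIsoToRingEquiv
  letI : Algebra (X.presheaf.stalk (j y)) ((Spec (CommRingCat.of Γ(X, U))).presheaf.stalk y) := e.toRingHom.toAlgebra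
  letI alg : Algebra ((Spec (CommRingCat.of Γ(X, U))).presheaf.stalk y) A :=
    ((algebraMap (X.presheaf.stalk (j y)) A).comp e.symm.toRingHom).toAlgebra
  haveI : IsScalarTower (X.presheaf.stalk (j y)) ((Spec (CommRingCat.of Γ(X, U))).presheaf.stalk y) A :=
    IsScalarTower.of_algebraMap_eq fun a => by
      show _ = algebraMap _ A (e.symm (e a))
      rw [e.symm_apply_apply]
  haveI hloc : IsLocalHom (algebraMap ((Spec (CommRingCat.of Γ(X, U))).presheaf.stalk y) A) := ⟨fun a ha => by
    have h1 := (IsUnit.of_map (algebraMap (X.presheaf.stalk (j y)) A) (e.symm a) ha).map e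
    rwa [e.apply_symm_apply] at h1⟩
  haveI := EtPBC.isStrictHenselization_of_bijective (A := X.presheaf.stalk (j y))
    (B := (Spec (CommRingCat.of Γ(X, U))).presheaf.stalk y) (S := A) e.bijective
  refine exists_closedPoint_dvr_affine (R := R) Γ(X, U) y ?_ A
  have h1 : (Spec.map (CommRingCat.ofHom φ)) y = closedPoint R := by rw [hφ]; exact hx
  exact (congrArg PrimeSpectrum.asIdeal h1).ge

end Groth.Agent.SHClosed
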