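import Groth.Agent.EtPBC.CdLefLocal
import Groth.Agent.WeakEt.StrictHens
import Groth.Agent.WeakEt.Basic
import Groth.Agent.Olivier.Valuation
import Groth.Agent.Hensel.Henselization
import Mathlib

/-!
# Strict henselisations of schemes of finite type over a field are those at closed points over a bigger field
-/

set_option autoImplicit false
set_option backward.isDefEq.respectTransparency false
set_option backward.isDefEq.respectTransparency.types false
set_option linter.style.haveILetI false
set_option maxHeartbeats 1000000
set_option synthInstance.maxHeartbeats 400000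

universe u

open CategoryTheory AlgebraicGeometry IsLocalRing
open scoped TensorProduct

noncomputable section

namespace Groth.Agent.SHClosed

/-- localisations are weakly etale -/
theorem weaklyEtale_of_isLocalization {R : Type u} [CommRing R] (S : Submonoid R) (T : Type u) [CommRing T]
    [Algebra R T] [IsLocalization S T] : Algebra.WeaklyEtale R T :=
  ⟨IsLocalization.flat T S, .of_bijective (IsLocalization.bijective_linearMap_mul' S T (R := R))⟩

/-- von Neumann regular local rings are fields -/
theorem isField_of_sq_mul {S : Type u} [CommRing S] [IsLocalRing S] (h : ∀ a : S, ∃ b, a * a * b = a) : IsField S := by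
  refine ⟨exists_pair_ne S, mul_comm, fun {a} ha => ?_⟩
  obtain ⟨b, hb⟩ := h a
  by_cases hu : IsUnit (a * b)
  · exact ⟨b, hu.mul_left_cancel (by linear_combination b * hb)⟩
  · exact absurd (((IsLocalRing.isUnit_or_isUnit_one_sub_self (a * b)).resolve_left hu).mul_left_eq_zero.1
      (show a * (1 - a * b) = 0 by linear_combination -hb)) ha

/-- the strict henselisation of a field, abstractly -/
theorem exists_sepClosed_aux (K : Type u) [Field K] (S : Type u) [CommRing S] [IsLocalRing S] [Algebra K S]
    [IsLocalHom (algebraMap K S)] [hS : _root_.Hensel.IsStrictHenselization K S] {A : Type u} [CommRing A]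
    [IsLocalRing A] [HenselianLocalRing A] [IsSepClosed (ResidueField A)] (i : K →+* A) :
    ∃ (k' : Type u) (_ : Field k') (_ : IsSepClosed k') (_ : Algebra K k') (_ : Algebra.WeaklyEtale K k')
      (g : k' →+* A), g.comp (algebraMap K k') = i := by
  haveI := WeakEt.weaklyEtale_strictHenselization K S
  haveI : IsReduced S := WeakEt.isReduced_of_weaklyEtale K S
  have hfield : IsField S := isField_of_sq_mul (WeakEt.exists_sq_mul_of_weaklyEtale (R := K) (S := S) fun c => by
    by_cases hc : c = 0
    · exact ⟨0, by simp [hc]⟩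
    · exact ⟨c⁻¹, by rw [mul_assoc, mul_inv_cancel₀ hc, mul_one]⟩)
  letI hF : Field S := hfield.toField
  haveI : IsLocalHom i := ⟨fun c hc => isUnit_iff_ne_zero.2 fun h => not_isUnit_zero (M₀ := A) (by rwa [h, map_zero] at hc)⟩
  letI : Algebra K A := i.toAlgebra
  haveI : IsLocalHom (algebraMap K A) := ‹IsLocalHom i›
  haveI : Algebra.IsSeparable (ResidueField K) (ResidueField S) := hS.isSepClosure.2
  let τ : ResidueField S →ₐ[ResidueField K] ResidueField A := IsSepClosed.lift
  obtain ⟨g, ⟨hg, -⟩, -⟩ := hS.universal A (algebraMap K A) τ.toRingHom (RingHom.ext fun x => τ.commutes x)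
  haveI : IsSepClosed (ResidueField S) := hS.isSepClosure.1
  haveI : IsSepClosed S := Hensel.isSepClosed_of_ringEquiv
    (RingEquiv.ofBijective (residue S) ⟨(residue S).injective, residue_surjective⟩).symm
  exact ⟨S, hF, ‹_›, inferInstance, inferInstance, g, hg⟩

/-- the strict henselisation of a field is a separably closed field, weakly etale over it -/
theorem exists_sepClosed_weaklyEtale (K : Type u) [Field K] {A : Type u} [CommRing A] [IsLocalRing A]
    [HenselianLocalRing A] [IsSepClosed (ResidueField A)] (i : K →+* A) :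
    ∃ (k' : Type u) (_ : Field k') (_ : IsSepClosed k') (_ : Algebra K k') (_ : Algebra.WeaklyEtale K k')
      (g : k' →+* A), g.comp (algebraMap K k') = i := by
  obtain ⟨hl, hS⟩ := Hensel.exists_strictHenselization K
  exact exists_sepClosed_aux K (Hensel.Env K (SeparableClosure (ResidueField K))) (hS := hS) i

/-- stalks of spectra are localisations -/
theorem isLocalization_stalk (R : Type u) [CommRing R] (x : Spec (CommRingCat.of R)) :
    letI : Algebra R ((Spec (CommRingCat.of R)).presheaf.stalk x) := (StructureSheaf.toStalk R x).hom.toAlgebra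
    IsLocalization.AtPrime ((Spec (CommRingCat.of R)).presheaf.stalk x) x.asIdeal := by
  letI : Algebra R ((Spec (CommRingCat.of R)).presheaf.stalk x) := (StructureSheaf.toStalk R x).hom.toAlgebra
  exact inferInstanceAs (IsLocalization.AtPrime ((Spec.structureSheaf R).presheaf.stalk x) x.asIdeal)

/-- **the affine case** -/
theorem exists_closedPoint_affine {k : Type u} [Field k] (B : Type u) [CommRing B] [Algebra k B]
    [Algebra.FiniteType k B] (y : Spec (CommRingCat.of B)) (A : Type u) [CommRing A] [IsLocalRing A]
    [Algebra ((Spec (CommRingCat.of B)).presheaf.stalk y) A]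
    [IsLocalHom (algebraMap ((Spec (CommRingCat.of B)).presheaf.stalk y) A)]
    [hA : _root_.Hensel.IsStrictHenselization ((Spec (CommRingCat.of B)).presheaf.stalk y) A] :
    ∃ (k' : Type u) (_ : Field k') (_ : IsSepClosed k') (X' : Scheme.{u}) (f' : X' ⟶ Spec (CommRingCat.of k'))
      (_ : LocallyOfFiniteType f') (_ : QuasiCompact f') (x' : X') (_ : IsClosed ({x'} : Set X'))
      (_ : Algebra (X'.presheaf.stalk x') A) (_ : IsLocalHom (algebraMap (X'.presheaf.stalk x') A)),
      _root_.Hensel.IsStrictHenselization (X'.presheaf.stalk x') A := by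
  haveI : HenselianLocalRing A := hA.henselian
  haveI : IsSepClosed (ResidueField A) := hA.isSepClosure.1
  let O : Type u := (Spec (CommRingCat.of B)).presheaf.stalk y
  letI : Algebra B O := (StructureSheaf.toStalk B y).hom.toAlgebra
  haveI : IsLocalization.AtPrime O y.asIdeal :=
    inferInstanceAs (IsLocalization.AtPrime ((Spec.structureSheaf B).presheaf.stalk y) y.asIdeal)
  letI : Algebra B A := ((algebraMap O A).comp (algebraMap B O)).toAlgebra
  haveI : IsScalarTower B O A := IsScalarTower.of_algebraMap_eq fun _ => rfl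
  haveI : LocallyOfFiniteType (Spec.map (CommRingCat.ofHom (algebraMap k B))) :=
    (HasRingHomProperty.Spec_iff (P := @LocallyOfFiniteType)).2
      (RingHom.finiteType_algebraMap.2 (inferInstance : Algebra.FiniteType k B))
  obtain ⟨r, hr, -⟩ := EtPBC.exists_trdg_eq (Spec.map (CommRingCat.ofHom (algebraMap k B))) y
  obtain ⟨b, hb⟩ := EtPBC.exists_indep_eq B y hr
  rw [EtPBC.trdg_kStr_spec] at hr
  let P := MvPolynomial (Fin r) k
  letI : Algebra P B := (MvPolynomial.aeval b).toRingHom.toAlgebra
  haveI : IsScalarTower k P B := IsScalarTower.of_algebraMap_eq fun c => ((MvPolynomial.aeval b).commutes c).symm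
  haveI : Algebra.FiniteType P B := Algebra.FiniteType.of_restrictScalars_finiteType k P B
  have hinj : Function.Injective (algebraMap P (B ⧸ y.asIdeal)) := by
    intro p q h
    refine hb ?_
    rw [show (MvPolynomial.aeval fun i => Ideal.Quotient.mk y.asIdeal (b i)) =
      (Ideal.Quotient.mkₐ k y.asIdeal).comp (MvPolynomial.aeval b) by ext; simp]
    exact h
  haveI : Algebra.IsAlgebraic P (B ⧸ y.asIdeal) := by
    haveI : FaithfulSMul P (B ⧸ y.asIdeal) := (faithfulSMul_iff_algebraMap_injective _ _).2 hinj
    haveI : FaithfulSMul k P := (faithfulSMul_iff_algebraMap_injective _ _).2 (MvPolynomial.C_injective _ _)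
    have h2 := trdeg_add_eq k P (A := B ⧸ y.asIdeal)
    rw [MvPolynomial.trdeg_of_isDomain, hr] at h2
    rw [← trdeg_eq_zero_iff]
    simp only [Cardinal.mk_fin, Cardinal.lift_natCast, Cardinal.lift_id] at h2
    exact Cardinal.eq_of_add_eq_add_left (b := Algebra.trdeg P (B ⧸ y.asIdeal)) (c := 0)
      (h2.trans (add_zero _).symm) Cardinal.natCast_lt_aleph0
  have hu : ∀ p : nonZeroDivisors P, IsUnit ((algebraMap B A).comp (algebraMap P B) p) := fun p => by
    refine ((IsLocalization.map_units O (⟨algebraMap P B p, fun h => ?_⟩ : y.asIdeal.primeCompl)).map (algebraMap O A))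
    exact nonZeroDivisors.coe_ne_zero p (hinj (((Ideal.Quotient.eq_zero_iff_mem).2 h).trans (map_zero _).symm))
  let K := FractionRing P
  obtain ⟨k', _, _, _, _, g, hg⟩ := exists_sepClosed_weaklyEtale K (A := A) (IsLocalization.lift (S := K) hu)
  letI : Algebra P k' := ((algebraMap K k').comp (algebraMap P K)).toAlgebra
  haveI : IsScalarTower P K k' := IsScalarTower.of_algebraMap_eq fun _ => rfl
  haveI : Algebra.WeaklyEtale P K := weaklyEtale_of_isLocalization (nonZeroDivisors P) K
  haveI : Algebra.WeaklyEtale P k' := Algebra.WeaklyEtale.trans P K k'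
  letI : Algebra P A := ((algebraMap B A).comp (algebraMap P B)).toAlgebra
  haveI : IsScalarTower P B A := IsScalarTower.of_algebraMap_eq fun _ => rfl
  let g' : k' →ₐ[P] A :=
    { g with commutes' := (fun p => by
        show g (algebraMap K k' (algebraMap P K p)) = _
        rw [← RingHom.comp_apply g (algebraMap K k'), hg, IsLocalization.lift_eq]
        rfl) }
  let C := B ⊗[P] k'
  let θ : C →ₐ[B] A := Algebra.TensorProduct.lift (Algebra.ofId B A) g' fun _ _ => Commute.all _ _
  let x : Spec (CommRingCat.of C) := ⟨(maximalIdeal A).comap θ.toRingHom, Ideal.IsPrime.comap _⟩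
  let inr : k' →+* C := (Algebra.TensorProduct.includeRight (R := P) (A := B) (B := k')).toRingHom
  have hft : inr.FiniteType := by
    have h1 : (algebraMap k' (k' ⊗[P] B)).FiniteType :=
      RingHom.finiteType_algebraMap.2 (inferInstance : Algebra.FiniteType k' (k' ⊗[P] B))
    have h2 := (RingHom.FiniteType.of_surjective (Algebra.TensorProduct.comm P k' B).toRingHom
      (Algebra.TensorProduct.comm P k' B).surjective).comp h1
    refine (show inr = _ from RingHom.ext fun c => ?_) ▸ h2
    exact (Algebra.TensorProduct.comm_tmul P c (1 : B)).symm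
  haveI : LocallyOfFiniteType (Spec.map (CommRingCat.ofHom inr)) :=
    (HasRingHomProperty.Spec_iff (P := @LocallyOfFiniteType)).2 hft
  have hmax : x.asIdeal.IsMaximal := by
    letI : Algebra k' C := inr.toAlgebra
    haveI : Algebra.IsIntegral k' (C ⧸ x.asIdeal) := by
      refine ⟨fun z => ?_⟩
      obtain ⟨z, rfl⟩ := Ideal.Quotient.mk_surjective z
      induction z using TensorProduct.induction_on with
      | zero => rw [map_zero]; exact isIntegral_zero
      | add a c ha hc => rw [map_add]; exact ha.add hc
      | tmul s c =>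
        rw [show s ⊗ₜ[P] c = (s ⊗ₜ[P] (1 : k')) * inr c by
          show s ⊗ₜ[P] c = (s ⊗ₜ[P] (1 : k')) * ((1 : B) ⊗ₜ[P] c)
          rw [Algebra.TensorProduct.tmul_mul_tmul, mul_one, one_mul], map_mul]
        refine IsIntegral.mul ?_ (isIntegral_algebraMap (x := c))
        obtain ⟨p, hp, hp0⟩ := Algebra.IsAlgebraic.isAlgebraic (R := P) (Ideal.Quotient.mk y.asIdeal s)
        refine (IsAlgebraic.isIntegral ⟨p.map (algebraMap P k'),
          (Polynomial.map_ne_zero_iff (f := algebraMap P k') ((algebraMap K k').injective.comp (IsFractionRing.injective P K))).2 hp, ?_⟩)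
        let j : B →ₐ[P] C ⧸ x.asIdeal :=
          (Ideal.Quotient.mkₐ P x.asIdeal).comp (Algebra.TensorProduct.includeLeft (S := P))
        have hk : ∀ w ∈ y.asIdeal, j w = 0 := fun w hw => Ideal.Quotient.eq_zero_iff_mem.2 (by
          show θ (w ⊗ₜ[P] (1 : k')) ∈ maximalIdeal A
          rw [Algebra.TensorProduct.lift_tmul, map_one, mul_one]
          refine (mem_maximalIdeal _).2 (mt (isUnit_of_map_unit (algebraMap O A) (algebraMap B O w)) ?_)
          exact fun h => (IsLocalization.AtPrime.isUnit_to_map_iff O y.asIdeal w).1 h hw)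
        haveI : IsScalarTower P k' (C ⧸ x.asIdeal) := IsScalarTower.of_algebraMap_eq fun a => by
          show _ = Ideal.Quotient.mk x.asIdeal (inr (algebraMap P k' a))
          exact congrArg (Ideal.Quotient.mk x.asIdeal) ((Algebra.TensorProduct.includeRight (R := P) (A := B) (B := k')).commutes a).symm
        rw [Polynomial.aeval_map_algebraMap, show Ideal.Quotient.mk x.asIdeal (s ⊗ₜ[P] (1 : k')) =
          Ideal.Quotient.liftₐ y.asIdeal j hk (Ideal.Quotient.mk y.asIdeal s) from rfl, Polynomial.aeval_algHom_apply,
          hp0, map_zero]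
    haveI : IsDomain (C ⧸ x.asIdeal) := inferInstance
    exact Ideal.Quotient.maximal_of_isField _ (isField_of_isIntegral_of_isField' (Field.toIsField k'))
  have hcl : IsClosed ({x} : Set (Spec (CommRingCat.of C))) :=
    (PrimeSpectrum.isClosed_singleton_iff_isMaximal x).2 hmax
  let O' : Type u := (Spec (CommRingCat.of C)).presheaf.stalk x
  letI : Algebra C O' := (StructureSheaf.toStalk C x).hom.toAlgebra
  haveI : IsLocalization.AtPrime O' x.asIdeal :=
    isLocalization_stalk C x
  have hx : ∀ c : x.asIdeal.primeCompl, IsUnit (θ.toRingHom c) := fun c => notMem_maximalIdeal.1 c.2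
  let χ : O' →+* A := IsLocalization.lift (S := O') hx
  letI : Algebra O' A := χ.toAlgebra
  haveI hloc : IsLocalHom (algebraMap O' A) := ⟨fun a ha => by
    obtain ⟨c, s, rfl⟩ := IsLocalization.exists_mk'_eq x.asIdeal.primeCompl a
    refine (IsLocalization.AtPrime.isUnit_mk'_iff O' x.asIdeal c s).2 fun hc => ?_
    have h1 : IsUnit (χ (algebraMap C O' c)) := by
      rw [← IsLocalization.mk'_spec O' c s, map_mul]
      exact ha.mul ((IsLocalization.map_units O' s).map χ)
    rw [IsLocalization.lift_eq] at h1
    exact (mem_maximalIdeal _).1 hc h1⟩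
  letI : Algebra B O' := ((algebraMap C O').comp (algebraMap B C)).toAlgebra
  haveI : IsScalarTower B C O' := IsScalarTower.of_algebraMap_eq fun _ => rfl
  have hy : ∀ s : y.asIdeal.primeCompl, IsUnit (algebraMap B O' s) := fun s => by
    refine IsLocalization.map_units O' (⟨algebraMap B C s, fun h => ?_⟩ : x.asIdeal.primeCompl)
    have h1 : algebraMap B A (s : B) ∈ maximalIdeal A := θ.commutes (s : B) ▸ h
    exact (mem_maximalIdeal _).1 h1 ((IsLocalization.map_units O s).map (algebraMap O A))
  letI : Algebra O O' := (IsLocalization.lift (S := O) hy).toAlgebra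
  haveI : IsScalarTower B O O' := IsScalarTower.of_algebraMap_eq fun c => (IsLocalization.lift_eq _ c).symm
  haveI : IsScalarTower O O' A := IsScalarTower.of_algebraMap_eq' (IsLocalization.ringHom_ext y.asIdeal.primeCompl
    (RingHom.ext fun c => by
      show algebraMap O A (algebraMap B O c) = χ (IsLocalization.lift (S := O) hy (algebraMap B O c))
      rw [IsLocalization.lift_eq]
      show _ = χ (algebraMap C O' (algebraMap B C c))
      rw [IsLocalization.lift_eq]
      exact (θ.commutes c).symm))
  haveI : Algebra.WeaklyEtale B O := weaklyEtale_of_isLocalization y.asIdeal.primeCompl O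
  haveI : Algebra.WeaklyEtale C O' := weaklyEtale_of_isLocalization x.asIdeal.primeCompl O'
  haveI : Algebra.WeaklyEtale B O' := Algebra.WeaklyEtale.trans B C O'
  haveI : Algebra.WeaklyEtale O O' := WeakEt.weaklyEtale_of_comp B O O'
  haveI : Algebra.WeaklyEtale O A := WeakEt.weaklyEtale_strictHenselization O A
  haveI : Algebra.WeaklyEtale O' A := WeakEt.weaklyEtale_of_comp O O' A
  obtain ⟨hl', hS'⟩ := Hensel.exists_strictHenselization O'
  exact ⟨k', inferInstance, inferInstance, _, Spec.map (CommRingCat.ofHom inr), inferInstance, inferInstance, x, hcl,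
    inferInstance, hloc, WeakEt.isStrictHenselization_aux O' (Hensel.Env O' (SeparableClosure (ResidueField O'))) A
      (hS := hS')⟩

/-- **the general case** -/
theorem exists_closedPoint {k : Type u} [Field k] {X : Scheme.{u}} (f : X ⟶ Spec (CommRingCat.of k))
    [LocallyOfFiniteType f] (x : X) (A : Type u) [CommRing A] [IsLocalRing A] [Algebra (X.presheaf.stalk x) A]
    [IsLocalHom (algebraMap (X.presheaf.stalk x) A)] [_root_.Hensel.IsStrictHenselization (X.presheaf.stalk x) A] :
    ∃ (k' : Type u) (_ : Field k') (_ : IsSepClosed k') (X' : Scheme.{u}) (f' : X' ⟶ Spec (CommRingCat.of k'))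
      (_ : LocallyOfFiniteType f') (_ : QuasiCompact f') (x' : X') (_ : IsClosed ({x'} : Set X'))
      (_ : Algebra (X'.presheaf.stalk x') A) (_ : IsLocalHom (algebraMap (X'.presheaf.stalk x') A)),
      _root_.Hensel.IsStrictHenselization (X'.presheaf.stalk x') A := by
  obtain ⟨B, _, _, _, y, alg, hl, hB⟩ := EtPBC.exists_chart_sh f x A
  exact exists_closedPoint_affine (k := k) B y A

end Groth.Agent.SHClosed
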